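import Groth.Agent.S19769
import Groth.Agent.ThetaLib.KLExists

/-!
# The group scheme `K(L)`
-/

noncomputable section

set_option autoImplicit false
set_option linter.style.haveILetI false
set_option backward.isDefEq.respectTransparency false
set_option backward.isDefEq.respectTransparency.types false

universe u

open CategoryTheory CategoryTheory.Limits MonoidalCategory CartesianMonoidalCategory MonObj AlgebraicGeometry Opposite

namespace Groth.Agent.AVDualMake

variable {k : Type u} [Field k] {A : Over (Spec (CommRingCat.of k))} [GrpObj A] [IsProper A.hom]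
  [GeometricallyIntegral A.hom] {L : A.left.Modules} (hL : PicF.IsInvertible L)
  {K : Over (Spec (CommRingCat.of k))} {i : K ⟶ A} (hK : ThetaGrp.IsKL A L i)

/-- The points factoring through `K(L)`. -/
def klSubgroup (T : Over (Spec (CommRingCat.of k))) : Subgroup (T ⟶ A) where
  carrier := {x | ∃ y : T ⟶ K, y ≫ i = x}
  mul_mem' := by
    rintro _ _ ⟨y₁, rfl⟩ ⟨y₂, rfl⟩
    exact (Groth.Agent.S19769.result k A L hL K i hK T).1 y₁ y₂
  one_mem' := (Groth.Agent.S19769.result k A L hL K i hK T).2.1
  inv_mem' := by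
    rintro _ ⟨y, rfl⟩
    exact (Groth.Agent.S19769.result k A L hL K i hK T).2.2 y

/-- The functor of points of `K(L)`. -/
def klFunctor : (Over (Spec (CommRingCat.of k)))ᵒᵖ ⥤ GrpCat.{u} where
  obj T := GrpCat.of (klSubgroup hL hK T.unop)
  map {T T'} f := GrpCat.ofHom
    { toFun := fun g => ⟨f.unop ≫ g.1, by
        obtain ⟨y, hy⟩ := g.2
        exact ⟨f.unop ≫ y, by rw [Category.assoc, hy]⟩⟩
      map_one' := Subtype.ext (MonObj.comp_one _)
      map_mul' := fun g g' => Subtype.ext (MonObj.comp_mul _ _ _) }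
  map_id T := GrpCat.hom_ext (MonoidHom.ext fun g => Subtype.ext (Category.id_comp _))
  map_comp {T T' T''} f g := GrpCat.hom_ext (MonoidHom.ext fun x => Subtype.ext (Category.assoc _ _ _))

include hK in
theorem mono_incl : Mono i := by
  haveI := hK.closed
  exact Over.mono_of_mono_left i

/-- `K(L)` represents its functor of points. -/
def klRep : (klFunctor hL hK ⋙ forget _).RepresentableBy K where
  homEquiv {T} := Equiv.ofBijective (fun y : T ⟶ K => (⟨y ≫ i, ⟨y, rfl⟩⟩ : klSubgroup hL hK T))
    ⟨fun y y' h => by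
      haveI := mono_incl hK
      exact (cancel_mono i).1 (congrArg Subtype.val h),
    fun ⟨x, y, hy⟩ => ⟨y, Subtype.ext hy⟩⟩
  homEquiv_comp f g := Subtype.ext (Category.assoc _ _ _)

/-- The group structure of `K(L)`. -/
@[implicit_reducible] def klGrpObj : GrpObj K := GrpObj.ofRepresentableBy _ (klFunctor hL hK) (klRep hL hK)

include hK in
theorem isMonHom_incl : letI := klGrpObj hL hK; IsMonHom i := by
  letI := klGrpObj hL hK
  refine ⟨?_, ?_⟩
  · have e : (klRep hL hK).homEquiv η[K] = (1 : klSubgroup hL hK _) := Equiv.apply_symm_apply _ _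
    refine (congrArg Subtype.val e).trans ?_
    show (1 : 𝟙_ (Over (Spec (CommRingCat.of k))) ⟶ A) = η[A]
    rw [Hom.one_def, toUnit_unique (toUnit _) (𝟙 _), Category.id_comp]
  · have e : (klRep hL hK).homEquiv μ[K] =
        ((klRep hL hK).homEquiv (fst K K) * (klRep hL hK).homEquiv (snd K K) : klSubgroup hL hK _) :=
      Equiv.apply_symm_apply _ _
    refine (congrArg Subtype.val e).trans ?_
    show (fst K K ≫ i) * (snd K K ≫ i) = (i ⊗ₘ i) ≫ μ[A]
    rw [Hom.mul_def]
    congr 1

end Groth.Agent.AVDualMake
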