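import Groth.Agent.AVDualMake.EulerKL
import Groth.Agent.S19771
import Groth.Agent.AVEuler.Isogeny
import Groth.Agent.AVIndex.Field

/-!
# `K(L)` and base change; the rank of `K(L)` over any field
-/

noncomputable section

set_option autoImplicit false
set_option linter.style.haveILetI false
set_option linter.unusedSectionVars false
set_option backward.isDefEq.respectTransparency false
set_option backward.isDefEq.respectTransparency.types false
set_option maxHeartbeats 1000000

universe u

open CategoryTheory CategoryTheory.Limits MonoidalCategory CartesianMonoidalCategory MonObj AlgebraicGeometry TopologicalSpace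

namespace Groth.Agent.AVDualMake

open Groth.Agent Groth.Agent.H23
open scoped Groth.Agent.H23.PicMul

section BaseChange

variable {S S' : Scheme.{u}} (b : S' ⟶ S) {A : Over S} [GrpObj A] {L : A.left.Modules}

private theorem triv_iff_cl {X : Over S} [GrpObj X] (M : X.left.Modules) {Z : Over S} (z : Z ⟶ X) :
    ThetaGrp.IsMumfordTriv X M z ↔ ∃ N : Z.left.Modules, PicF.IsInvertible N ∧
      PicF.pullCl (snd X Z).left (PicF.cl N) * PicF.pullCl (fst X Z).left (PicF.cl M) *
        PicF.pullCl (snd X Z ≫ z).left (PicF.cl M) = PicF.pullCl ((X ◁ z) ≫ μ[X]).left (PicF.cl M) := by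
  refine exists_congr fun N => and_congr_right fun _ => ?_
  rw [AgPol.IsLambdaSheaf, ← PicMul.cl_eq_iff, PicMul.cl_tensor, PicMul.cl_tensor]
  rfl

/-- Triviality of the Mumford bundle is compatible with a change of base. -/
theorem mumfordTriv_bc {T : Over S'} (z : T ⟶ Red.bc b A) :
    ThetaGrp.IsMumfordTriv (Red.bc b A) ((Scheme.Modules.pullback (pullback.fst A.hom b)).obj L) z ↔
      ThetaGrp.IsMumfordTriv A L (S19771.dn z) := by
  let A' : Over S' := Red.bc b A
  let T₀ : Over S := Over.mk (T.hom ≫ b)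
  let x : T₀ ⟶ A := S19771.dn z
  let fA : A'.left ⟶ A.left := pullback.fst A.hom b
  let W : Over S := Over.mk ((A' ⊗ T).hom ≫ b)
  let p₂ : W ⟶ T₀ := Over.homMk (snd A' T).left (by
    show (snd A' T).left ≫ T.hom ≫ b = _
    rw [← Category.assoc, Over.w (snd A' T)]
    rfl)
  let J : W ⟶ A ⊗ T₀ := lift (S19771.dn (fst A' T)) p₂
  have hJ1 : J ≫ fst A T₀ = S19771.dn (fst A' T) := lift_fst _ _
  have hJ2 : J ≫ snd A T₀ = p₂ := lift_snd _ _
  have e1 : J.left ≫ (fst A T₀).left = (fst A' T).left ≫ fA := congrArg CommaMorphism.left hJ1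
  have e2 : J.left ≫ (snd A T₀).left = (snd A' T).left := congrArg CommaMorphism.left hJ2
  have hcond : (fst A T₀).left ≫ A.hom = ((snd A T₀).left ≫ T.hom) ≫ b := by
    rw [Over.w (fst A T₀), ← Over.w (snd A T₀), Category.assoc]
    rfl
  let J' : (A ⊗ T₀).left ⟶ (A' ⊗ T).left :=
    pullback.lift (pullback.lift (fst A T₀).left ((snd A T₀).left ≫ T.hom) hcond) (snd A T₀).left
      (pullback.lift_snd _ _ _)
  have f1 : J' ≫ (fst A' T).left = pullback.lift (fst A T₀).left ((snd A T₀).left ≫ T.hom) hcond :=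
    pullback.lift_fst _ _ _
  have f2 : J' ≫ (snd A' T).left = (snd A T₀).left := pullback.lift_snd _ _ _
  haveI : IsIso J.left := ⟨J', by
    refine pullback.hom_ext ?_ ?_
    · show (J.left ≫ J') ≫ (fst A' T).left = 𝟙 _ ≫ (fst A' T).left
      rw [Category.assoc, f1, Category.id_comp]
      refine pullback.hom_ext ?_ ?_
      · rw [Category.assoc, pullback.lift_fst, e1]
      · rw [Category.assoc, pullback.lift_snd, ← Category.assoc, e2, Over.w (snd A' T), ← Over.w (fst A' T)]
        rfl
    · show (J.left ≫ J') ≫ (snd A' T).left = 𝟙 _ ≫ (snd A' T).left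
      rw [Category.assoc, f2, e2, Category.id_comp], by
    refine pullback.hom_ext ?_ ?_
    · show (J' ≫ J.left) ≫ (fst A T₀).left = 𝟙 _ ≫ (fst A T₀).left
      rw [Category.assoc, e1, ← Category.assoc, f1, pullback.lift_fst, Category.id_comp]
    · show (J' ≫ J.left) ≫ (snd A T₀).left = 𝟙 _ ≫ (snd A T₀).left
      rw [Category.assoc, e2, f2, Category.id_comp]⟩
  have hinj : ∀ {c d : PicF.Cl (A ⊗ T₀).left}, PicF.pullCl J.left c = PicF.pullCl J.left d → c = d :=
    fun {c d} h => by
      have h' := congrArg (PicF.pullCl (inv J.left)) h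
      rwa [PicClLib.pullCl_comp, PicClLib.pullCl_comp, IsIso.inv_hom_id, PicClLib.pullCl_id, PicClLib.pullCl_id] at h'
  have e3 : (snd A' T ≫ z).left ≫ fA = J.left ≫ (snd A T₀ ≫ x).left := by
    show ((snd A' T).left ≫ z.left) ≫ fA = J.left ≫ (snd A T₀).left ≫ z.left ≫ fA
    rw [← Category.assoc J.left, e2, Category.assoc]
  have e4 : ((A' ◁ z) ≫ μ[A']).left ≫ fA = J.left ≫ ((A ◁ x) ≫ μ[A]).left := by
    have h2 : (S19771.dn (snd A' T ≫ z) : W ⟶ A) = J ≫ snd A T₀ ≫ x := Over.OverMorphism.ext e3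
    have h4 := congrArg CommaMorphism.left (S19771.dn_mul (b := b) (fst A' T) (snd A' T ≫ z))
    rw [← hJ1, h2, ← MonObj.comp_mul] at h4
    have hw : ∀ {V : Over S} {U : Over S} [GrpObj V] (y : U ⟶ V), (V ◁ y) ≫ μ[V] = fst V U * (snd V U ≫ y) := by
      intro V U _ y
      rw [Hom.mul_def]
      congr 1
    have hw' : (A' ◁ z) ≫ μ[A'] = fst A' T * (snd A' T ≫ z) := by
      rw [Hom.mul_def]
      congr 1
    rw [hw', hw x]
    exact h4
  rw [triv_iff_cl, triv_iff_cl]
  have key : ∀ N : T.left.Modules,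
      PicF.pullCl (snd A' T).left (PicF.cl N) * PicF.pullCl (fst A' T).left (PicF.pullCl fA (PicF.cl L)) *
          PicF.pullCl (snd A' T ≫ z).left (PicF.pullCl fA (PicF.cl L)) =
        PicF.pullCl ((A' ◁ z) ≫ μ[A']).left (PicF.pullCl fA (PicF.cl L)) ↔
      PicF.pullCl (snd A T₀).left (PicF.cl N) * PicF.pullCl (fst A T₀).left (PicF.cl L) *
          PicF.pullCl (snd A T₀ ≫ x).left (PicF.cl L) = PicF.pullCl ((A ◁ x) ≫ μ[A]).left (PicF.cl L) := by
    intro N
    rw [PicClLib.pullCl_comp, PicClLib.pullCl_comp, PicClLib.pullCl_comp, e3, e4, ← e1, ← e2,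
      ← PicClLib.pullCl_comp J.left, ← PicClLib.pullCl_comp J.left, ← PicClLib.pullCl_comp J.left,
      ← PicClLib.pullCl_comp J.left, ← PicMul.pullCl_mul, ← PicMul.pullCl_mul]
    exact ⟨hinj, fun h => by rw [h]⟩
  exact exists_congr fun N => and_congr_right fun _ => key N

/-- `K(L)` commutes with a change of base. -/
theorem isKL_bc {K : Over S} {i : K ⟶ A} (hK : ThetaGrp.IsKL A L i) :
    ThetaGrp.IsKL (Red.bc b A) ((Scheme.Modules.pullback (pullback.fst A.hom b)).obj L) ((Over.pullback b).map i) := by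
  have hl : ((Over.pullback b).map i).left ≫ pullback.fst A.hom b = pullback.fst K.hom b ≫ i.left :=
    pullback.lift_fst _ _ _
  constructor
  · haveI := hK.closed
    exact MorphismProperty.of_isPullback (P := @IsClosedImmersion)
      (IsPullback.of_bot (by
        show IsPullback (pullback.fst K.hom b) (((Over.pullback b).map i).left ≫ pullback.snd A.hom b)
          (i.left ≫ A.hom) b
        rw [show ((Over.pullback b).map i).left ≫ pullback.snd A.hom b = pullback.snd K.hom b from
          pullback.lift_snd _ _ _, Over.w i]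
        exact IsPullback.of_hasPullback K.hom b) hl.symm (IsPullback.of_hasPullback A.hom b)) hK.closed
  intro T z
  rw [mumfordTriv_bc b z, hK.univ]
  constructor
  · rintro ⟨y, hy⟩
    refine ⟨Over.homMk (pullback.lift y.left T.hom ((Over.w y).trans rfl)) (pullback.lift_snd _ _ _), ?_⟩
    refine Over.OverMorphism.ext (pullback.hom_ext ?_ ((Over.w _).trans (Over.w z).symm))
    show (_ ≫ ((Over.pullback b).map i).left) ≫ pullback.fst A.hom b = z.left ≫ pullback.fst A.hom b
    rw [Category.assoc, hl, ← Category.assoc]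
    show (pullback.lift y.left T.hom _ ≫ pullback.fst K.hom b) ≫ i.left = _
    rw [pullback.lift_fst]
    exact congrArg CommaMorphism.left hy
  · rintro ⟨y, rfl⟩
    refine ⟨S19771.dn y, Over.OverMorphism.ext ?_⟩
    show (y.left ≫ pullback.fst K.hom b) ≫ i.left = (y.left ≫ _) ≫ pullback.fst A.hom b
    rw [Category.assoc, Category.assoc, hl]

end BaseChange

section Field

variable {k : Type u} [Field k]

local notation "pt₀" => 𝟙_ (Over (Spec (CommRingCat.of k)))

/-- `K(L)` contains the origin. -/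
theorem exists_one_mem [IsAlgClosed k] {A : Over (Spec (CommRingCat.of k))} [GrpObj A] [IsProper A.hom]
    [GeometricallyIntegral A.hom] {L : A.left.Modules} (hL : PicF.IsInvertible L)
    {K : Over (Spec (CommRingCat.of k))} {i : K ⟶ A} (hK : ThetaGrp.IsKL A L i) :
    ∃ y : pt₀ ⟶ K, y ≫ i = 1 := by
  refine (fix_of_kl hL hK 1).2 ⟨?_⟩
  have h : CubeAb.tr (1 : pt₀ ⟶ A) = 𝟙 A := by
    show 𝟙 A * (toUnit A ≫ 1) = 𝟙 A
    rw [MonObj.comp_one, _root_.mul_one]
  exact eqToIso (by rw [h]; rfl) ≪≫ (Scheme.Modules.pullbackId _).app L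

/-- A module of non-zero Euler characteristic has a finite `K(L)`. -/
theorem isFinite_KL_of_euler_ne_zero [IsAlgClosed k] {A : Over (Spec (CommRingCat.of k))} [GrpObj A] [IsProper A.hom]
    [GeometricallyIntegral A.hom] {L : A.left.Modules} (hL : PicF.IsInvertible L)
    (hχ : @Curv2.euler k _ A.left ⟨A.hom⟩ L ≠ 0)
    {K : Over (Spec (CommRingCat.of k))} {i : K ⟶ A} (hK : ThetaGrp.IsKL A L i) : IsFinite K.hom := by
  haveI : IsClosedImmersion i.left := hK.closed
  haveI : IsProper (i.left ≫ A.hom) := inferInstance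
  haveI : IsProper K.hom := by rw [← Over.w i]; infer_instance
  haveI : Mono i := mono_incl hK
  haveI hf : Finite (pt₀ ⟶ K) := by
    have hfix : Set.Finite {a : pt₀ ⟶ A |
        Nonempty ((Scheme.Modules.pullback (𝟙 A * (toUnit A ≫ a)).left).obj L ≅ L)} := by
      by_contra h
      exact hχ (AVTheta8.euler_eq_zero_of_degenerate hL h)
    haveI := hfix.to_subtype
    exact Finite.of_injective (fun y => (⟨y ≫ i, (fix_of_kl hL hK _).1 ⟨y, rfl⟩⟩ :
      {a : pt₀ ⟶ A | Nonempty ((Scheme.Modules.pullback (𝟙 A * (toUnit A ≫ a)).left).obj L ≅ L)}))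
      fun y y' e => (cancel_mono i).1 (congrArg Subtype.val e)
  haveI : Finite {q : Spec (CommRingCat.of k) ⟶ K.left // q ≫ K.hom = 𝟙 _} :=
    Finite.of_injective (fun q => (Over.homMk q.1 q.2 : pt₀ ⟶ K)) fun q q' e =>
      Subtype.ext (congrArg CommaMorphism.left e)
  haveI : Finite (closedPoints ↥K.left) := Finite.of_equiv _ (pointEquivClosedPoint K.hom)
  haveI : JacobsonSpace ↥K.left := LocallyOfFiniteType.jacobsonSpace K.hom
  haveI : Finite ↥K.left := by
    have hfin : (closedPoints ↥K.left).Finite := Set.toFinite _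
    have hcl : IsClosed (closedPoints ↥K.left) := by
      rw [← Set.biUnion_of_singleton (closedPoints ↥K.left)]
      exact hfin.isClosed_biUnion fun x hx => hx
    rw [← Set.finite_univ_iff, ← closure_closedPoints, hcl.closure_eq]
    exact hfin
  rw [IsFinite.iff_isProper_and_locallyQuasiFinite]
  exact ⟨inferInstance, .of_finite_preimage_singleton K.hom fun s => Set.toFinite _⟩

/-- **The rank of `K(f^*M)`.** -/
theorem finrank_KL_pullback {X Y : Over (Spec (CommRingCat.of k))} [GrpObj X] [IsProper X.hom]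
    [GeometricallyIntegral X.hom] [GrpObj Y] [IsProper Y.hom] [GeometricallyIntegral Y.hom]
    (f : X ⟶ Y) [IsFinite f.left] [Flat f.left] (hf : Surjective f.left)
    (d : ℕ) (hd : ∀ y : ↥Y.left, Scheme.Hom.finrank f.left y = d)
    {M : Y.left.Modules} (hM : PicF.IsInvertible M)
    {KM : Over (Spec (CommRingCat.of k))} {iM : KM ⟶ Y} (hKM : ThetaGrp.IsKL Y M iM)
    [IsFinite KM.hom] {r : ℕ} (hr : ∀ s, Scheme.Hom.finrank KM.hom s = r)
    {KL : Over (Spec (CommRingCat.of k))} {iL : KL ⟶ X}
    (hKL : ThetaGrp.IsKL X ((Scheme.Modules.pullback f.left).obj M) iL) :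
    IsFinite KL.hom ∧ ∀ s, Scheme.Hom.finrank KL.hom s = d ^ 2 * r := by
  let Ω := AlgebraicClosure k
  let ps := AVIndex.clMap k
  let X' : Over (Spec (CommRingCat.of Ω)) := Red.bc ps X
  let Y' : Over (Spec (CommRingCat.of Ω)) := Red.bc ps Y
  haveI : IsProper X'.hom := (BcComp.isAV_bc ps X).1
  haveI : GeometricallyIntegral X'.hom := (BcComp.isAV_bc ps X).2
  haveI : IsProper Y'.hom := (BcComp.isAV_bc ps Y).1
  haveI : GeometricallyIntegral Y'.hom := (BcComp.isAV_bc ps Y).2
  let L := (Scheme.Modules.pullback f.left).obj M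
  have hL : PicF.IsInvertible L := PicClLib.isInvertible_pullback _ hM
  let f' : X' ⟶ Y' := (Over.pullback ps).map f
  have sqf : IsPullback (pullback.fst X.hom ps) f'.left f.left (pullback.fst Y.hom ps) :=
    IsPullback.of_bot (by
      show IsPullback (pullback.fst X.hom ps) (f'.left ≫ pullback.snd Y.hom ps) (f.left ≫ Y.hom) ps
      rw [show f'.left ≫ pullback.snd Y.hom ps = pullback.snd X.hom ps from pullback.lift_snd _ _ _, Over.w f]
      exact IsPullback.of_hasPullback X.hom ps) (pullback.lift_fst _ _ _).symm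
      (IsPullback.of_hasPullback Y.hom ps)
  haveI : IsFinite f'.left := MorphismProperty.of_isPullback (P := @IsFinite) sqf inferInstance
  haveI : Flat f'.left := MorphismProperty.of_isPullback (P := @Flat) sqf inferInstance
  have hd' : ∀ y, Scheme.Hom.finrank f'.left y = d := fun y => by
    rw [Scheme.Hom.finrank_of_isPullback _ _ _ _ sqf y, hd]
  let M' := (Scheme.Modules.pullback (pullback.fst Y.hom ps)).obj M
  let L' := (Scheme.Modules.pullback (pullback.fst X.hom ps)).obj L
  have hM' : PicF.IsInvertible M' := PicClLib.isInvertible_pullback _ hM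
  have hL' : PicF.IsInvertible L' := PicClLib.isInvertible_pullback _ hL
  obtain ⟨eL⟩ : Nonempty (L' ≅ (Scheme.Modules.pullback f'.left).obj M') :=
    ⟨(Scheme.Modules.pullbackComp _ _).app M ≪≫ (Scheme.Modules.pullbackCongr sqf.w).app M ≪≫
      ((Scheme.Modules.pullbackComp _ _).app M).symm⟩
  have hKM' := isKL_bc ps hKM
  have hKL' := isKL_bc ps hKL
  let KM' := (Over.pullback ps).obj KM
  let KL' := (Over.pullback ps).obj KL
  haveI : Subsingleton ↥(Spec (CommRingCat.of k)) := inferInstanceAs (Subsingleton (PrimeSpectrum k))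
  let s' : ↥(Spec (CommRingCat.of Ω)) := IsLocalRing.closedPoint Ω
  haveI : IsFinite KM'.hom := inferInstanceAs (IsFinite (pullback.snd KM.hom ps))
  have hrM : Scheme.Hom.finrank KM'.hom s' = r := by
    show Scheme.Hom.finrank (pullback.snd KM.hom ps) s' = r
    rw [Scheme.Hom.finrank_pullback_snd, hr]
  have hr1 : 1 ≤ r := by
    obtain ⟨y, -⟩ := exists_one_mem hM' hKM'
    have h := Scheme.Hom.one_le_finrank_map KM'.hom (y.left s')
    rwa [Subsingleton.elim (KM'.hom (y.left s')) s', hrM] at h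
  have hχM : @Curv2.euler Ω _ Y'.left ⟨Y'.hom⟩ M' ^ 2 = (r : ℤ) := by rw [← hrM]; exact euler_sq_KL hM' hKM' s'
  have hχL : @Curv2.euler Ω _ X'.left ⟨X'.hom⟩ L' = (d : ℤ) * @Curv2.euler Ω _ Y'.left ⟨Y'.hom⟩ M' := by
    letI : X'.left.Over (Spec (CommRingCat.of Ω)) := ⟨X'.hom⟩
    refine Eq.trans (CurveCohLib.euler_congr (k := Ω) (X := X'.left) eL) ?_
    haveI : IsLocallyNoetherian Y'.left := LocallyOfFiniteType.isLocallyNoetherian Y'.hom
    exact AVEuler.euler_pullback f' d hd' M' (AmpleVan.isCoh_invertible hM')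
  have hd1 : 1 ≤ d := by
    haveI : IsIntegral X.left := GeometricallyIntegral.isIntegral_of_subsingleton X.hom
    obtain ⟨x⟩ : Nonempty X.left := inferInstance
    rw [← hd (f.left x)]
    exact Scheme.Hom.one_le_finrank_map f.left x
  have hne : @Curv2.euler Ω _ X'.left ⟨X'.hom⟩ L' ≠ 0 := by
    rw [hχL]
    refine mul_ne_zero (by exact_mod_cast (by omega : d ≠ 0)) fun h => ?_
    rw [h] at hχM
    simp at hχM
    omega
  haveI hfin' : IsFinite KL'.hom := isFinite_KL_of_euler_ne_zero hL' hne hKL'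
  haveI : IsClosedImmersion iL.left := hKL.closed
  haveI : IsProper (iL.left ≫ X.hom) := inferInstance
  haveI : IsProper KL.hom := by rw [← Over.w iL]; infer_instance
  haveI hfinL : IsFinite KL.hom := by
    rw [IsFinite.iff_isProper_and_locallyQuasiFinite]
    refine ⟨inferInstance, .of_finite_preimage_singleton KL.hom fun s => Set.Finite.subset ?_ (Set.subset_univ _)⟩
    haveI : LocallyQuasiFinite KL'.hom := inferInstance
    haveI : Finite ↥KL'.left := by
      have h := KL'.hom.finite_preimage_singleton s'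
      haveI : Subsingleton ↥(Spec (CommRingCat.of Ω)) := inferInstanceAs (Subsingleton (PrimeSpectrum Ω))
      rw [← Set.finite_univ_iff]
      exact h.subset fun x _ => Subsingleton.elim (KL'.hom x) s'
    haveI : Finite ↥(pullback KL.hom ps) := ‹Finite ↥KL'.left›
    refine (Set.finite_range (pullback.fst KL.hom ps)).subset fun x _ => ?_
    obtain ⟨z, hz, -⟩ := Scheme.Pullback.exists_preimage_pullback (f := KL.hom) (g := ps) x s' (Subsingleton.elim _ _)
    exact ⟨z, hz⟩
  refine ⟨hfinL, fun s => ?_⟩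
  have h := euler_sq_KL hL' hKL' s'
  rw [hχL, mul_pow, hχM] at h
  have h2 : Scheme.Hom.finrank KL'.hom s' = Scheme.Hom.finrank KL.hom s := by
    show Scheme.Hom.finrank (pullback.snd KL.hom ps) s' = _
    rw [Scheme.Hom.finrank_pullback_snd, Subsingleton.elim (ps s') s]
  rw [← h2]
  exact_mod_cast h.symm

end Field

end Groth.Agent.AVDualMake
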