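import Groth.Agent.AVDualMake.Quotient
import Groth.Agent.AVTheta8.Apply
import Groth.Agent.AVTrace.Exact
import Groth.Agent.S12002

/-!
# The points of the quotient `A/K(L)`
-/

noncomputable section

set_option autoImplicit false
set_option linter.style.haveILetI false
set_option linter.unusedSectionVars false
set_option backward.isDefEq.respectTransparency false
set_option backward.isDefEq.respectTransparency.types false
set_option maxHeartbeats 1000000

universe u

open CategoryTheory CategoryTheory.Limits MonoidalCategory CartesianMonoidalCategory MonObj AlgebraicGeometry TopologicalSpace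

namespace Groth.Agent.AVDualMake

open Groth.Agent Groth.Agent.H23 Groth.Agent.AVPair
open scoped Groth.Agent.H23.PicMul

variable {k : Type u} [Field k] [IsAlgClosed k] {A : Over (Spec (CommRingCat.of k))} [GrpObj A] [IsProper A.hom]
  [GeometricallyIntegral A.hom]

local notation "pt₀" => 𝟙_ (Over (Spec (CommRingCat.of k)))

/-- Rational points lift along surjective morphisms to proper schemes. -/
theorem exists_pt_lift {Q : Over (Spec (CommRingCat.of k))} [GrpObj Q] [IsProper Q.hom] [GeometricallyIntegral Q.hom] (q : A ⟶ Q) [Surjective q.left]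
    (w : pt₀ ⟶ Q) : ∃ a : pt₀ ⟶ A, a ≫ q = w := by
  haveI : JacobsonSpace A.left := LocallyOfFiniteType.jacobsonSpace A.hom
  haveI : JacobsonSpace Q.left := LocallyOfFiniteType.jacobsonSpace Q.hom
  have hc : IsClosed (q.left ⁻¹' {AVAmple.pt w}) := (AVAmple.isClosed_pt w).preimage q.left.continuous
  obtain ⟨z, hz⟩ := q.left.surjective (AVAmple.pt w)
  obtain ⟨x, hx, hxc⟩ := nonempty_inter_closedPoints (Z := q.left ⁻¹' {AVAmple.pt w}) ⟨z, hz⟩ hc.isLocallyClosed
  obtain ⟨a, rfl⟩ := AVAmple.exists_pt (mem_closedPoints_iff.1 hxc)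
  exact ⟨a, AVTheta8.pt_injective (show q.left (AVAmple.pt a) = AVAmple.pt w from hx)⟩

variable {L : A.left.Modules} (hL : PicF.IsInvertible L) {d : PicF.Cl A.left} (hd : PicF.cl L * d = 1)

include hL hd in
/-- The slice of the Mumford class at a point. -/
theorem mum_slice (a : pt₀ ⟶ A) :
    pl (lift (𝟙 A) (toUnit A ≫ a)) (AVField.mum (PicF.cl L) d) = pl (CubeAb.tr a) (PicF.cl L) * d := by
  simp only [AVField.mum, map_mul, pl_pl]
  rw [lift_fst, lift_snd, pl_id, pl_const (AVField.isInvertibleCl_inv ⟨L, rfl, hL⟩ hd), _root_.mul_one,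
    show lift (𝟙 A) (toUnit A ≫ a) ≫ μ[A] = CubeAb.tr a from rfl]

include hL hd in
/-- A point moves the module trivially exactly when it lies on `K(L)`. -/
theorem mum_slice_eq_one_iff (a : pt₀ ⟶ A) :
    pl (lift (𝟙 A) (toUnit A ≫ a)) (AVField.mum (PicF.cl L) d) = 1 ↔
      Nonempty ((Scheme.Modules.pullback (CubeAb.tr a).left).obj L ≅ L) := by
  rw [mum_slice hL hd, ← AVTheta8.F_tr_eq_iff]
  show _ ↔ pl (CubeAb.tr a) (PicF.cl L) = PicF.cl L
  refine ⟨fun h => ?_, fun h => by rw [h, hd]⟩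
  rw [← _root_.mul_one (pl (CubeAb.tr a) (PicF.cl L)), ← hd, _root_.mul_comm (PicF.cl L) d, ← _root_.mul_assoc, h,
    _root_.one_mul]

include hL in
/-- Points of `K(L)` fix the module. -/
theorem fix_of_kl {K : Over (Spec (CommRingCat.of k))} {i : K ⟶ A} (hK : ThetaGrp.IsKL A L i) (a : pt₀ ⟶ A) :
    (∃ y : pt₀ ⟶ K, y ≫ i = a) ↔ Nonempty ((Scheme.Modules.pullback (CubeAb.tr a).left).obj L ≅ L) := by
  haveI : IsCommMonObj A := isCommMonObj_of_isProper_of_geometricallyIntegral A
  haveI : Subsingleton ↥(Spec (CommRingCat.of k)) := inferInstanceAs (Subsingleton (PrimeSpectrum k))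
  haveI : Nonempty ↥(Spec (CommRingCat.of k)) := inferInstanceAs (Nonempty (PrimeSpectrum k))
  rw [← hK.univ, ← AVTheta8.F_tr_eq_iff, KLBasic.iff_eq_pull hL a, KLBasic.Eq, ThetaGrp.transl_fst]
  show pl (fst A pt₀ * (snd A pt₀ ≫ a)) (PicF.cl L) =
    pl (fst A pt₀) (PicF.cl L) * pl (snd A pt₀) (pl a (PicF.cl L)) ↔ pl (CubeAb.tr a) (PicF.cl L) = PicF.cl L
  have hc : pl (snd A pt₀) (pl a (PicF.cl L)) = 1 := by
    rw [pl_pl, toUnit_unique (snd A pt₀) (toUnit _), pl_const ⟨L, rfl, hL⟩]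
  have e : fst A pt₀ * (snd A pt₀ ≫ a) = fst A pt₀ ≫ CubeAb.tr a := by
    show _ = fst A pt₀ ≫ (𝟙 A * (toUnit A ≫ a))
    rw [MonObj.comp_mul, Category.comp_id, ← Category.assoc, toUnit_unique (fst A pt₀ ≫ toUnit A) (snd A pt₀)]
  rw [hc, _root_.mul_one, e, ← pl_pl]
  refine ⟨fun h => ?_, fun h => by rw [h]⟩
  have h' := congrArg (pl (lift (𝟙 A) (toUnit A))) h
  rwa [pl_pl (lift (𝟙 A) (toUnit A)), pl_pl (lift (𝟙 A) (toUnit A)), lift_fst, pl_id, pl_id] at h'

end Groth.Agent.AVDualMake
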