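import Groth.Agent.AVDualCx.Concentrated
import Groth.Agent.AVDualMake.Points
import Groth.Agent.AVFieldDual.FibreTools

/-!
# The rank of `K(L)` is the square of the Euler characteristic
-/

noncomputable section

set_option autoImplicit false
set_option linter.style.haveILetI false
set_option linter.unusedSectionVars false
set_option backward.isDefEq.respectTransparency false
set_option backward.isDefEq.respectTransparency.types false
set_option maxHeartbeats 2000000

universe u

open CategoryTheory CategoryTheory.Limits MonoidalCategory CartesianMonoidalCategory MonObj AlgebraicGeometry TopologicalSpace Opposite IsLocalRing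

namespace Groth.Agent.AVDualMake

open Groth.Agent Groth.Agent.H23 Groth.Agent.H23.TrivBasic Groth.Agent.AVDualCx Groth.Agent.AVPair
open scoped Groth.Agent.H23.PicMul

variable {k : Type u} [Field k] [IsAlgClosed k] {A At : Over (Spec (CommRingCat.of k))} [GrpObj A] [IsProper A.hom]
  [GeometricallyIntegral A.hom] [GrpObj At] [IsProper At.hom] [GeometricallyIntegral At.hom]
  {P : (A ⊗ At).left.Modules}

/-- **The square of the Euler characteristic is the degree of the polarisation map.** -/
theorem euler_sq_of_concentrated [HasInjectiveResolutions (A ⊗ At).left.Modules] (hP : PicF.IsInvertible P)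
    (hconc : ∀ g : ℕ, topologicalKrullDim ↥A.left = g → (g : WithBot ℕ∞) ≤ topologicalKrullDim ↥At.left →
      (∀ p, p ≠ g → IsZero ((Coh.Rpush (snd A At).left p).obj P)) ∧
        Nonempty ((Coh.Rpush (snd A At).left g).obj P ≅
          (Coh.push (1 : 𝟙_ (Over (Spec (CommRingCat.of k))) ⟶ At).left).obj
            (Coh.structureModule (Spec (CommRingCat.of k)))))
    {L L' : A.left.Modules} (hL : PicF.IsInvertible L) (hL' : PicF.cl L * PicF.cl L' = 1)
    (lam : A ⟶ At) [IsFinite lam.left] [Flat lam.left] (d : ℕ) (hd : ∀ y, Scheme.Hom.finrank lam.left y = d)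
    (hlam : pl (A ◁ lam) (PicF.cl P) = pl μ[A] (PicF.cl L) * pl (fst A A) (PicF.cl L') * pl (snd A A) (PicF.cl L')) :
    @Curv2.euler k _ A.left ⟨A.hom⟩ L ^ 2 = (d : ℤ) := by
  letI : A.left.Over (Spec (CommRingCat.of k)) := ⟨A.hom⟩
  letI : At.left.Over (Spec (CommRingCat.of k)) := ⟨At.hom⟩
  letI : (A ⊗ A).left.Over (Spec (CommRingCat.of k)) := ⟨(snd A A).left ≫ A.hom⟩
  letI : (A ⊗ At).left.Over (Spec (CommRingCat.of k)) := ⟨(snd A At).left ≫ At.hom⟩
  haveI : IsProper (A.left ↘ Spec (CommRingCat.of k)) := ‹IsProper A.hom›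
  haveI : IsProper (At.left ↘ Spec (CommRingCat.of k)) := ‹IsProper At.hom›
  haveI : IsIntegral A.left := GeometricallyIntegral.isIntegral_of_subsingleton A.hom
  haveI : IsIntegral At.left := GeometricallyIntegral.isIntegral_of_subsingleton At.hom
  haveI := CurveCohLib.isNoetherian_of_proper (k := k) (X := A.left)
  haveI := CurveCohLib.isNoetherian_of_proper (k := k) (X := At.left)
  haveI : HasInjectiveResolutions (A ⊗ A).left.Modules := KFlatLib.hasInjectiveResolutions_modules
  haveI : Surjective lam.left := Scheme.Hom.one_le_finrank_iff_surjective lam.left |>.1 fun y => by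
    obtain ⟨x⟩ : Nonempty A.left := inferInstance
    show 1 ≤ _
    rw [hd y, ← hd (lam.left x)]
    exact Scheme.Hom.one_le_finrank_map lam.left x
  obtain ⟨g, hg⟩ : ∃ g : ℕ, topologicalKrullDim A.left = g :=
    ⟨_, VarDim.topologicalKrullDim_eq_deg_genericPoint A.hom⟩
  have hgt : topologicalKrullDim At.left = g := (dim_eq_of_finite_surjective lam.left).symm.trans hg
  obtain ⟨hzero, ⟨iE⟩⟩ := hconc g hg hgt.ge
  let e : Spec (CommRingCat.of k) ⟶ At.left := (1 : 𝟙_ (Over (Spec (CommRingCat.of k))) ⟶ At).left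
  have he : e ≫ At.hom = 𝟙 _ := Over.w (1 : 𝟙_ (Over (Spec (CommRingCat.of k))) ⟶ At)
  haveI : IsClosedImmersion e := isClosedImmersion_of_comp_eq_id At.hom e he
  let E := (Coh.push e).obj (Coh.structureModule (Spec (CommRingCat.of k)))
  -- base change along `lam`
  let f : (A ⊗ A).left ⟶ A.left := (snd A A).left
  let f' : (A ⊗ At).left ⟶ At.left := (snd A At).left
  have sq : IsPullback (A ◁ lam).left f f' lam.left := EqvUnr.isPullback_whiskerLeft A lam
  haveI : IsProper f := inferInstanceAs (IsProper (pullback.snd A.hom A.hom))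
  haveI : IsProper f' := inferInstanceAs (IsProper (pullback.snd A.hom At.hom))
  haveI : IsProper ((A ⊗ A).left ↘ Spec (CommRingCat.of k)) := inferInstanceAs (IsProper (f ≫ A.hom))
  haveI := CurveCohLib.isNoetherian_of_proper (k := k) (X := (A ⊗ A).left)
  haveI : Flat (A ◁ lam).left := MorphismProperty.of_isPullback (P := @Flat) sq.flip inferInstance
  haveI : PreservesFiniteLimits (Scheme.Modules.pullback (A ◁ lam).left) :=
    RGLib.Lim8.preservesFiniteLimits_pullback _
  have hqP : Coh.IsQCoh P := QCoh.isQCoh_of_isFinLocFree (PullPush.isFinLocFree_of_isInvertible hP)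
  let Q := (Scheme.Modules.pullback (A ◁ lam).left).obj P
  have hbc : ∀ q, Nonempty ((Coh.Rpush f q).obj Q ≅ (Scheme.Modules.pullback lam.left).obj ((Coh.Rpush f' q).obj P)) := fun q => by
    haveI := FlatBC6.isIso_bcQ_flat (f := f') (g := lam.left) (f' := f) (g' := (A ◁ lam).left) sq hqP q
    exact ⟨(asIso (CohBC.bcQ f' lam.left f (A ◁ lam).left sq.w q P)).symm⟩
  -- the direct image is supported on a finite scheme
  let K := pullback e lam.left
  let i : K ⟶ A.left := pullback.snd e lam.left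
  haveI : IsClosedImmersion i := inferInstanceAs (IsClosedImmersion (pullback.snd e lam.left))
  haveI : IsFinite (pullback.fst e lam.left) := inferInstanceAs (IsFinite (pullback.fst e lam.left))
  haveI : Flat (pullback.fst e lam.left) := inferInstanceAs (Flat (pullback.fst e lam.left))
  obtain ⟨b⟩ := AVEuler.nonempty_pullback_push e lam.left i (pullback.fst e lam.left)
    (IsPullback.of_hasPullback e lam.left) QCoh.isQCoh_structureModule
  obtain ⟨o⟩ := PicClLib.nonempty_pullback_structureModule (pullback.fst e lam.left)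
  let iK : (Scheme.Modules.pullback lam.left).obj E ≅ (Coh.push i).obj (Coh.structureModule K) :=
    b ≪≫ (Coh.push i).mapIso o
  have htw : Nonempty (CohB1.tensorMod ((Coh.push i).obj (Coh.structureModule K)) L ≅
      (Coh.push i).obj (Coh.structureModule K)) := by
    obtain ⟨V, hV, ⟨a⟩⟩ := S0235.result (pullback.fst e lam.left) ((Scheme.Modules.pullback i).obj L)
      (PicClLib.isInvertible_pullback _ hL) (closedPoint k)
    haveI : Subsingleton ↥(Spec (CommRingCat.of k)) := inferInstanceAs (Subsingleton (PrimeSpectrum k))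
    obtain rfl : V = ⊤ := top_le_iff.1 fun z _ => by rwa [Subsingleton.elim z (closedPoint k)]
    let W : K.Opens := pullback.fst e lam.left ⁻¹ᵁ ⊤
    let j : K ⟶ W.toScheme := (Scheme.topIso K).inv
    have hj : j ≫ W.ι = 𝟙 K := (Scheme.topIso K).inv_hom_id
    obtain ⟨o'⟩ := PicClLib.nonempty_pullback_structureModule j
    let t : (Scheme.Modules.pullback i).obj L ≅ Coh.structureModule K :=
      ((Scheme.Modules.pullbackId _).app _).symm ≪≫ (Scheme.Modules.pullbackCongr hj).symm.app _ ≪≫
        ((Scheme.Modules.pullbackComp j W.ι).app _).symm ≪≫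
        (Scheme.Modules.pullback j).mapIso (((Scheme.Modules.restrictFunctorIsoPullback W.ι).app _).symm ≪≫ a) ≪≫ o'
    obtain ⟨p⟩ := IntNum.push_tensor i (Coh.structureModule K) L
    obtain ⟨u⟩ : Nonempty (CohB1.tensorMod (Coh.structureModule K) (Coh.structureModule K) ≅ Coh.structureModule K) :=
      PicMul.cl_eq_iff.1 ((PicMul.cl_tensor _ _).trans (_root_.one_mul (1 : PicF.Cl K)))
    exact ⟨p.symm ≪≫ (Coh.push i).mapIso (PicGrp.tensorModIso (Iso.refl _) t ≪≫ u)⟩
  -- twisting by the second factor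
  let G := CohB1.tensorMod ((Scheme.Modules.pullback f).obj L) Q
  have hQ : PicF.IsInvertible Q := PicClLib.isInvertible_pullback _ hP
  have hGi : PicF.IsInvertible G := PicMul.isInvertible_tensor (PicClLib.isInvertible_pullback _ hL) hQ
  have hRG : ∀ q, Nonempty ((Coh.Rpush f q).obj G ≅ CohB1.tensorMod L ((Coh.Rpush f q).obj Q)) := fun q =>
    (KFlatLib.nonempty_rpush_tensor_finLocFree f Q L (PullPush.isFinLocFree_of_isInvertible hL) q).map Iso.symm
  have hG1 : Curv2.euler k (A ⊗ A).left G = (-1 : ℤ) ^ g * d := by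
    rw [euler_of_concentrated f rfl (AmpleVan.isCoh_invertible hGi) (g := g) fun q hq => by
      have h := (hzero q hq)
      have h' : IsZero ((Coh.Rpush f q).obj Q) :=
        ((Scheme.Modules.pullback lam.left).map_isZero h).of_iso (hbc q).some
      exact (((DCoh.tensorBi.obj L)).map_isZero h').of_iso (hRG q).some]
    congr 1
    rw [CurveCohLib.euler_congr (k := k) ((hRG g).some ≪≫
      PicGrp.tensorModIso (Iso.refl L) ((hbc g).some ≪≫ (Scheme.Modules.pullback lam.left).mapIso iE ≪≫ iK) ≪≫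
      (PicMul.cl_eq_iff.1 ((PicMul.cl_tensor _ _).trans ((_root_.mul_comm _ _).trans (PicMul.cl_tensor _ _).symm))).some ≪≫ htw.some ≪≫ iK.symm)]
    have hE : Coh.IsCoh E := QCoh.isCoh_push_structure e
    rw [AVEuler.euler_pullback lam d hd E hE]
    show (d : ℤ) * Curv2.euler k At.left E = d
    rw [euler_push_point e he, _root_.mul_one]
  -- the same class through the shear
  let σ := GrpOmega.shear A
  haveI : IsIso σ.hom.left := inferInstanceAs (IsIso ((Over.forget _).mapIso σ).hom)
  let B := CohB1.tensorMod ((Scheme.Modules.pullback f).obj L) ((Scheme.Modules.pullback (fst A A).left).obj L')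
  have hLi' : PicF.IsInvertible L' := by
    obtain ⟨D, hD, ⟨u⟩⟩ := H23.PicInv.exists_inverse hL
    have h2 : PicF.cl L * PicF.cl D = 1 := by
      rw [← PicMul.cl_tensor, PicMul.one_def]; exact PicMul.cl_eq_iff.2 ⟨u⟩
    exact PicMul.isInvertible_of_iso (PicMul.cl_eq_iff.1 ((PicMul.isUnit_cl hL).mul_left_cancel (h2.trans hL'.symm))).some hD
  have hB : PicF.IsInvertible B :=
    PicMul.isInvertible_tensor (PicClLib.isInvertible_pullback _ hL) (PicClLib.isInvertible_pullback _ hLi')
  have hGB : PicF.cl G = PicF.cl ((Scheme.Modules.pullback σ.hom.left).obj B) := by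
    show pl (snd A A) (PicF.cl L) * pl (A ◁ lam) (PicF.cl P) =
      pl σ.hom (pl (snd A A) (PicF.cl L) * pl (fst A A) (PicF.cl L'))
    rw [hlam, map_mul, pl_pl, pl_pl,
      show σ.hom ≫ snd A A = μ[A] by simp [σ, GrpOmega.shear, MonObj.mul_eq_mul],
      show σ.hom ≫ fst A A = fst A A by simp [σ, GrpOmega.shear]]
    have h0 : pl (snd A A) (PicF.cl L) * pl (snd A A) (PicF.cl L') = 1 := by rw [← map_mul, hL', map_one]
    calc _ = pl μ[A] (PicF.cl L) * pl (fst A A) (PicF.cl L') *
        (pl (snd A A) (PicF.cl L) * pl (snd A A) (PicF.cl L')) := by ac_rfl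
      _ = _ := by rw [h0, _root_.mul_one]
  have hG2 : Curv2.euler k (A ⊗ A).left G = Curv2.euler k A.left L' * Curv2.euler k A.left L := by
    rw [CurveCohLib.euler_congr (k := k) (PicMul.cl_eq_iff.1 hGB).some,
      euler_pullback_iso σ.hom.left (by
        show σ.hom.left ≫ (snd A A).left ≫ A.hom = (snd A A).left ≫ A.hom
        rw [show (snd A A).left ≫ A.hom = (A ⊗ A).hom from Over.w (snd A A)]
        exact Over.w σ.hom) (QCoh.isQCoh_of_isFinLocFree (PullPush.isFinLocFree_of_isInvertible hB))]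
    exact euler_prod A A hLi' hL
  have hL'e : (Curv2.euler k A.left L' : ℚ) = (-1 : ℚ) ^ g * (Curv2.euler k A.left L : ℚ) := by
    have h := AVEuler.euler_homogeneous hg hL hLi' hL' 0 1
    rw [CurveCohLib.euler_congr (k := k) (PicMul.cl_eq_iff.1 (show
      PicF.cl (CohB1.tensorMod (CohB1.tensorPow L 0) (CohB1.tensorPow L' 1)) = PicF.cl L' by
        rw [PicMul.cl_tensor, PicMul.cl_tensorPow, PicMul.cl_tensorPow, pow_zero, pow_one, _root_.one_mul])).some] at h
    simpa using h
  have h : ((-1 : ℚ) ^ g * (d : ℚ)) = (-1 : ℚ) ^ g * (Curv2.euler k A.left L : ℚ) ^ 2 := by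
    have h0 := congrArg (fun z : ℤ => (z : ℚ)) (hG1.symm.trans hG2)
    push_cast at h0
    rw [h0, hL'e]
    ring
  have h' := mul_left_cancel₀ (pow_ne_zero g (by norm_num : (-1 : ℚ) ≠ 0)) h
  exact_mod_cast h'.symm

variable {L : A.left.Modules} (hL : PicF.IsInvertible L)

include hL in
/-- **`χ(L)² = rank K(L)`** for a non-degenerate module over an algebraically closed field. -/
theorem euler_sq_KL {K : Over (Spec (CommRingCat.of k))} {i : K ⟶ A} (hK : ThetaGrp.IsKL A L i) [IsFinite K.hom]
    (s : ↥(Spec (CommRingCat.of k))) :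
    @Curv2.euler k _ A.left ⟨A.hom⟩ L ^ 2 = (Scheme.Hom.finrank K.hom s : ℤ) := by
  haveI : IsCommMonObj A := isCommMonObj_of_isProper_of_geometricallyIntegral A
  haveI : Subsingleton ↥(Spec (CommRingCat.of k)) := inferInstanceAs (Subsingleton (PrimeSpectrum k))
  haveI : Nonempty ↥(Spec (CommRingCat.of k)) := inferInstanceAs (Nonempty (PrimeSpectrum k))
  obtain ⟨D, hD, ⟨e⟩⟩ := PicInv.exists_inverse hL
  have hLD : PicF.cl L * PicF.cl D = 1 := by rw [← PicMul.cl_tensor]; exact PicMul.cl_eq_iff.2 ⟨e⟩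
  obtain ⟨Q, sQ, q, c, hQp, hQg, hqm, hqs, hqf, hker, hci, haxis, hc⟩ := exists_quotient hL hLD hK
  haveI := hQp; haveI := hQg; haveI := hqm; haveI := hqs; haveI := hqf
  obtain ⟨M, rfl, hM⟩ := hci
  letI := klGrpObj hL hK
  haveI := isMonHom_incl hL hK
  haveI := mono_incl hK
  have hkk : AlgGrp.IsKernel i q := GrpQuotLib.isKernel_of_isCosetMap fun T a b => hker T a b
  haveI : IsFinite q.left := AVField.isFinite_of_kernel q i hkk
  haveI : IsIntegral A.left := GeometricallyIntegral.isIntegral_of_subsingleton A.hom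
  haveI : IsIntegral Q.left := GeometricallyIntegral.isIntegral_of_subsingleton Q.hom
  haveI : IsLocallyNoetherian A.left := LocallyOfFiniteType.isLocallyNoetherian A.hom
  haveI : IsLocallyNoetherian Q.left := LocallyOfFiniteType.isLocallyNoetherian Q.hom
  haveI : LocallyOfFinitePresentation q.left := by
    haveI : LocallyOfFinitePresentation (q.left ≫ Q.hom) := by rw [Over.w q]; infer_instance
    exact S12442.locallyOfFinitePresentation_of_comp q.left Q.hom
  obtain ⟨a0⟩ : Nonempty A.left := inferInstance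
  let n := q.left.finrank (q.left a0)
  have hn : ∀ y, q.left.finrank y = n := fun y => q.left.isLocallyConstant_finrank.apply_eq_of_preconnectedSpace _ _
  have hKn : Scheme.Hom.finrank K.hom s = n := by
    have sq : IsPullback i.left (toUnit K).left q.left η[Q].left :=
      (show IsPullback i (toUnit K) q η[Q] from hkk).map (Over.forget _)
    rw [show K.hom = (toUnit K).left from (Over.toUnit_left).symm, Scheme.Hom.finrank_of_isPullback _ _ _ _ sq s, hn]
  rw [hKn]
  let cM : PicF.Cl (A ⊗ Q).left := PicF.cl M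
  have hcM : PicF.IsInvertibleCl cM := ⟨M, rfl, hM⟩
  have hq1 : (1 : A ⟶ A) ≫ q = 1 := MonObj.one_comp q
  have h2 : pl (lift (𝟙 A) (1 : A ⟶ Q)) cM = 1 := by
    rw [← hq1, show lift (𝟙 A) ((1 : A ⟶ A) ≫ q) = lift (𝟙 A) (1 : A ⟶ A) ≫ A ◁ q from (lift_whiskerLeft _ _ _).symm,
      ← pl_pl, hc]
    simp only [AVField.mum, map_mul, pl_pl]
    rw [show lift (𝟙 A) (1 : A ⟶ A) ≫ μ[A] = 𝟙 A from _root_.mul_one (𝟙 A), lift_fst, lift_snd, Hom.one_def,
      pl_const (AVField.isInvertibleCl_inv ⟨L, rfl, hL⟩ hLD), _root_.mul_one, pl_id, pl_id, hLD]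
  haveI : HasInjectiveResolutions (A ⊗ Q).left.Modules := by
    letI : (A ⊗ Q).left.Over (Spec (CommRingCat.of k)) := ⟨(snd A Q).left ≫ Q.hom⟩
    haveI : IsProper (snd A Q).left := inferInstanceAs (IsProper (pullback.snd A.hom Q.hom))
    haveI : IsProper ((A ⊗ Q).left ↘ Spec (CommRingCat.of k)) := inferInstanceAs (IsProper ((snd A Q).left ≫ Q.hom))
    haveI := CurveCohLib.isNoetherian_of_proper (k := k) (X := (A ⊗ Q).left)
    exact KFlatLib.hasInjectiveResolutions_modules
  refine euler_sq_of_concentrated (P := M) hM ?_ hL hLD q n hn hc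
  intro g hg hgt
  have hone : ∀ T : Over (Spec (CommRingCat.of k)),
      Triv ((Scheme.Modules.pullback (A ◁ (1 : T ⟶ Q)).left).obj M) := fun T => by
    refine (triv_iff _).2 ?_
    show pl _ cM = 1
    rw [show A ◁ (1 : T ⟶ Q) = fst A T ≫ lift (𝟙 A) (1 : A ⟶ Q) from
      CartesianMonoidalCategory.hom_ext _ _ (by simp) (by simp [MonObj.comp_one]), ← pl_pl, h2, map_one]
  have hadd : ∀ b : 𝟙_ (Over (Spec (CommRingCat.of k))) ⟶ Q,
      CubeAb.IsAdditive (PicF.cl ((Scheme.Modules.pullback (lift (𝟙 A) (toUnit A ≫ b)).left).obj M)) := fun b => by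
    show pl (fst A A * snd A A) (pl (lift (𝟙 A) (toUnit A ≫ b)) cM) =
      pl (fst A A) (pl (lift (𝟙 A) (toUnit A ≫ b)) cM) * pl (snd A A) (pl (lift (𝟙 A) (toUnit A ≫ b)) cM)
    have hcomp : ∀ u : A ⊗ A ⟶ A, u ≫ lift (𝟙 A) (toUnit A ≫ b) = lift u (toUnit (A ⊗ A) ≫ b) := fun u => by
      rw [comp_lift, Category.comp_id, ← Category.assoc, toUnit_unique (u ≫ toUnit A) (toUnit _)]
    rw [pl_pl, pl_pl, pl_pl, hcomp, hcomp, hcomp, AVPair.add_left hcM haxis h2]
  have huniv : ∀ (T : Over (Spec (CommRingCat.of k))) (z : T ⟶ Q),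
      Triv ((Scheme.Modules.pullback (A ◁ z).left).obj M) → z = 1 := fun T z hz => by
    have hz' : pl (A ◁ z) cM = 1 := (triv_iff _).1 hz
    let T' : Over (Spec (CommRingCat.of k)) := Over.mk (pullback.fst z.left q.left ≫ T.hom)
    let p : T' ⟶ T := Over.homMk (pullback.fst z.left q.left) rfl
    let a : T' ⟶ A := Over.homMk (pullback.snd z.left q.left) (by
      show pullback.snd _ _ ≫ A.hom = pullback.fst _ _ ≫ T.hom
      rw [← Over.w q, ← pullback.condition_assoc, Over.w z])
    have ha : a ≫ q = p ≫ z := Over.OverMorphism.ext pullback.condition.symm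
    have hm : pl (A ◁ a) (AVField.mum (PicF.cl L) (PicF.cl D)) = 1 := by
      rw [← hc, pl_pl, ← MonoidalCategory.whiskerLeft_comp, ha, MonoidalCategory.whiskerLeft_comp, ← pl_pl, hz',
        map_one]
    obtain ⟨y, hy⟩ := (hK.univ T' a).1 ((KLBasic.iff_eq_pull hL a).2 (by
      rw [KLBasic.Eq, ThetaGrp.transl_fst]
      show pl (fst A T' * (snd A T' ≫ a)) (PicF.cl L) =
        pl (fst A T') (PicF.cl L) * pl (snd A T') (pl a (PicF.cl L))
      simp only [AVField.mum, map_mul, pl_pl, whiskerLeft_fst, whiskerLeft_snd] at hm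
      rw [show (A ◁ a) ≫ μ[A] = fst A T' * (snd A T' ≫ a) by
        show _ = lift (fst A T') (snd A T' ≫ a) ≫ μ[A]
        congr 1] at hm
      have hu : ∀ g : A ⊗ T' ⟶ A, pl g (PicF.cl L) * pl g (PicF.cl D) = 1 := fun g => by rw [← map_mul, hLD, map_one]
      rw [pl_pl]
      calc pl (fst A T' * (snd A T' ≫ a)) (PicF.cl L)
          = pl (fst A T' * (snd A T' ≫ a)) (PicF.cl L) * (pl (fst A T') (PicF.cl L) * pl (fst A T') (PicF.cl D)) *
            (pl (snd A T' ≫ a) (PicF.cl L) * pl (snd A T' ≫ a) (PicF.cl D)) := by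
            rw [hu, hu, _root_.mul_one, _root_.mul_one]
        _ = pl (fst A T') (PicF.cl L) * pl (snd A T' ≫ a) (PicF.cl L) *
            (pl (fst A T' * (snd A T' ≫ a)) (PicF.cl L) * pl (fst A T') (PicF.cl D) * pl (snd A T' ≫ a) (PicF.cl D)) := by
            ac_rfl
        _ = _ := by rw [hm, _root_.mul_one]))
    haveI : Surjective p.left := inferInstanceAs (Surjective (pullback.fst z.left q.left))
    haveI : Flat p.left := inferInstanceAs (Flat (pullback.fst z.left q.left))
    haveI : QuasiCompact p.left := inferInstanceAs (QuasiCompact (pullback.fst z.left q.left))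
    haveI : Epi p.left := Flat.epi_of_flat_of_surjective _
    have hpz : p ≫ z = p ≫ (1 : T ⟶ Q) := by
      rw [← ha, MonObj.comp_one, ← hy, Category.assoc, show i ≫ q = 1 from hkk.w.trans rfl, MonObj.comp_one]
    exact Over.OverMorphism.ext ((cancel_epi p.left).1 (congrArg CommaMorphism.left hpz))
  obtain ⟨hz, ⟨l⟩, hz'⟩ := rpush_concentrated g hone hadd huniv hg hgt hM
  haveI : IsClosedImmersion (1 : 𝟙_ (Over (Spec (CommRingCat.of k))) ⟶ Q).left :=
    isClosedImmersion_of_comp_eq_id Q.hom _ (Over.w (1 : 𝟙_ (Over (Spec (CommRingCat.of k))) ⟶ Q))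
  obtain ⟨⟨l'⟩, hz''⟩ := stalk_push_point (1 : 𝟙_ (Over (Spec (CommRingCat.of k))) ⟶ Q).left
  exact ⟨hz, nonempty_iso_of_stalk (y := e0 Q)
    (AVAmple.isClosed_pt (1 : 𝟙_ (Over (Spec (CommRingCat.of k))) ⟶ Q)) hz' hz'' (l.trans l'.symm)⟩

end Groth.Agent.AVDualMake
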