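import Groth.Agent.AVDualMake.KLGroup
import Groth.Agent.AVFieldDual.Polar
import Groth.Agent.GrpQuotLib.Group
import Groth.Agent.AVQuotLib.Quotient
import Groth.Agent.LineDesc.RigSheaf
import Groth.Agent.ThetaLib.LineDescent
import Groth.Agent.H23.KLBasic
import Groth.Agent.Chevalley.BC.AffLib

/-!
# The quotient `A/K(L)` and the class descended from the Mumford class
-/

noncomputable section

set_option autoImplicit false
set_option linter.style.haveILetI false
set_option linter.unusedSectionVars false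
set_option backward.isDefEq.respectTransparency false
set_option backward.isDefEq.respectTransparency.types false
set_option maxHeartbeats 1000000

universe u

open CategoryTheory CategoryTheory.Limits MonoidalCategory CartesianMonoidalCategory MonObj AlgebraicGeometry

namespace Groth.Agent.AVDualMake

open Groth.Agent Groth.Agent.H23 Groth.Agent.AVPair
open scoped Groth.Agent.H23.PicMul

variable {k : Type u} [Field k] {A : Over (Spec (CommRingCat.of k))} [GrpObj A] [IsProper A.hom]
  [GeometricallyIntegral A.hom] {L : A.left.Modules} (hL : PicF.IsInvertible L) {d : PicF.Cl A.left}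
  (hd : PicF.cl L * d = 1)

/-- Translation by a point of `K(L)` does not move the Mumford class. -/
theorem mum_translate {T : Over (Spec (CommRingCat.of k))} (a x : T ⟶ A) (hx : ThetaGrp.IsMumfordTriv A L x)
    (hL : PicF.IsInvertible L) (hd : PicF.cl L * d = 1) :
    pl (A ◁ (a * x)) (AVField.mum (PicF.cl L) d) = pl (A ◁ a) (AVField.mum (PicF.cl L) d) := by
  haveI : Subsingleton ↥(Spec (CommRingCat.of k)) := inferInstanceAs (Subsingleton (PrimeSpectrum k))
  haveI : Nonempty ↥(Spec (CommRingCat.of k)) := inferInstanceAs (Nonempty (PrimeSpectrum k))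
  haveI : IsCommMonObj A := isCommMonObj_of_isProper_of_geometricallyIntegral A
  let l : PicF.Cl A.left := PicF.cl L
  have hE : pl (fst A T * (snd A T ≫ x)) l = pl (fst A T) l * pl (snd A T) (pl x l) := by
    have h := (KLBasic.iff_eq_pull hL x).1 hx
    rw [KLBasic.Eq, ThetaGrp.transl_fst] at h
    exact h
  have h1 : pl (fst A T * (snd A T ≫ a) * (snd A T ≫ x)) l = pl (fst A T * (snd A T ≫ a)) l * pl (snd A T) (pl x l) := by
    have h := congrArg (pl (lift (fst A T * (snd A T ≫ a)) (snd A T))) hE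
    rw [map_mul, pl_pl, pl_pl, pl_pl, MonObj.comp_mul, lift_fst, lift_snd_assoc, lift_snd] at h
    exact h
  have h2 : pl (a * x) l = pl a l * pl x l := by
    have h := congrArg (pl (lift a (𝟙 T))) hE
    rw [map_mul, pl_pl, pl_pl, pl_pl, MonObj.comp_mul, lift_fst, lift_snd_assoc, lift_snd, pl_id, Category.id_comp] at h
    exact h
  have hu : ∀ g : A ⊗ T ⟶ A, pl g l * pl g d = 1 := fun g => by rw [← map_mul, hd, map_one]
  have hu' : ∀ g : T ⟶ A, pl g l * pl g d = 1 := fun g => by rw [← map_mul, hd, map_one]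
  have h3 : pl (a * x) d = pl a d * pl x d := by
    calc pl (a * x) d = pl (a * x) d * ((pl a l * pl a d) * (pl x l * pl x d)) := by
          rw [hu', hu', _root_.mul_one, _root_.mul_one]
      _ = pl (a * x) d * (pl a l * pl x l) * (pl a d * pl x d) := by ac_rfl
      _ = pl a d * pl x d := by rw [← h2, _root_.mul_comm (pl (a * x) d), hu', _root_.one_mul]
  have hm : ∀ b : T ⟶ A, pl (A ◁ b) (AVField.mum l d) =
      pl (fst A T * (snd A T ≫ b)) l * pl (fst A T) d * pl (snd A T) (pl b d) := fun b => by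
    simp only [AVField.mum, map_mul, pl_pl, whiskerLeft_fst, whiskerLeft_snd]
    congr 3
  show pl (A ◁ (a * x)) (AVField.mum l d) = _
  rw [hm, hm, MonObj.comp_mul, ← _root_.mul_assoc, h1, h3, map_mul]
  calc _ = pl (fst A T * (snd A T ≫ a)) l * pl (fst A T) d * pl (snd A T) (pl a d) *
        (pl (snd A T) (pl x l) * pl (snd A T) (pl x d)) := by ac_rfl
    _ = _ := by rw [← map_mul, hu', map_one, _root_.mul_one]

include hL hd in
/-- **The quotient by `K(L)`, with the descended class.** -/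
theorem exists_quotient {K : Over (Spec (CommRingCat.of k))} {i : K ⟶ A} (hK : ThetaGrp.IsKL A L i) :
    ∃ (Q : Over (Spec (CommRingCat.of k))) (_ : GrpObj Q) (q : A ⟶ Q) (c : PicF.Cl (A ⊗ Q).left),
      IsProper Q.hom ∧ GeometricallyIntegral Q.hom ∧ IsMonHom q ∧ Surjective q.left ∧ Flat q.left ∧
        (∀ (T : Over (Spec (CommRingCat.of k))) (a b : T ⟶ A), a ≫ q = b ≫ q ↔ ∃ h : T ⟶ K, b = a * (h ≫ i)) ∧
        PicF.IsInvertibleCl c ∧ pl (lift (1 : Q ⟶ A) (𝟙 Q)) c = 1 ∧
        pl (A ◁ q) c = AVField.mum (PicF.cl L) d := by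
  haveI : IsCommMonObj A := isCommMonObj_of_isProper_of_geometricallyIntegral A
  letI := klGrpObj hL hK
  haveI := isMonHom_incl hL hK
  haveI := mono_incl hK
  haveI := hK.closed
  haveI : LocallyOfFiniteType K.hom := by
    rw [← Over.w i]
    infer_instance
  obtain ⟨Q, sQ, q, hq, hflat, hsurj, hlfp, hlft, hcos, -⟩ := GrpQuotLib.exists_quotientGrp i
    (fun T g n => ⟨n, mul_inv_eq_iff_eq_mul.2 (mul_comm _ _)⟩)
  haveI := hq
  haveI := hflat
  haveI := hsurj
  haveI := hlfp
  haveI := hlft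
  haveI : IsSeparated Q.hom := GrpSchLib.AntiAffine.isSeparated_grp Q
  haveI : IsProper Q.hom := Chevalley.BC.isProper_of_surjective q
  have hQg : GeometricallyIntegral Q.hom := AVQuotLib.geometricallyIntegral_of_flat_surjective q
  let U : Over (Spec (CommRingCat.of k)) := LineDesc.Rig.U1 (T := Q) q.left
  let e : U ⟶ A := Over.homMk (𝟙 A.left) ((Category.id_comp _).trans (Over.w q).symm)
  have he : e ≫ q = AbDual.ovrHom Q q.left := Over.OverMorphism.ext (Category.id_comp _)
  let m := AVField.mum (PicF.cl L) d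
  have hsec : PicF.pullCl (PicF.secT A.hom η[A].left (Over.w η[A]) U) (pl (A ◁ e) m) = 1 := by
    rw [AVDual.secT_eq]
    show pl (lift (1 : U ⟶ A) (𝟙 U)) (pl (A ◁ e) m) = 1
    rw [pl_pl, lift_whiskerLeft, Category.id_comp]
    simp only [m, AVField.mum, map_mul, pl_pl]
    rw [show lift (1 : U ⟶ A) e ≫ μ[A] = e from _root_.one_mul e, lift_fst, lift_snd, Hom.one_def,
      pl_const (AVField.isInvertibleCl_inv ⟨L, rfl, hL⟩ hd), _root_.mul_one, ← map_mul, hd, map_one]
  let c' : PicF.Rig A.hom η[A].left (Over.w η[A]) U :=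
    ⟨pl (A ◁ e) m, isInv_pl _ (AVField.isInvertibleCl_mum ⟨L, rfl, hL⟩ hd), hsec⟩
  have hglue : PicF.pullCl (PicF.XTmap A.hom (LineDesc.Rig.p1 (T := Q) q.left)) c'.1 =
      PicF.pullCl (PicF.XTmap A.hom (LineDesc.Rig.p2 (T := Q) q.left)) c'.1 := by
    rw [AVDual.xtMap_eq, AVDual.xtMap_eq]
    show pl (A ◁ LineDesc.Rig.p1 (T := Q) q.left) (pl (A ◁ e) m) = pl (A ◁ LineDesc.Rig.p2 (T := Q) q.left) (pl (A ◁ e) m)
    rw [pl_pl, pl_pl, ← MonoidalCategory.whiskerLeft_comp, ← MonoidalCategory.whiskerLeft_comp]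
    have hpq : (LineDesc.Rig.p1 (T := Q) q.left ≫ e) ≫ q = (LineDesc.Rig.p2 (T := Q) q.left ≫ e) ≫ q := by
      rw [Category.assoc, Category.assoc, he]
      exact Over.OverMorphism.ext pullback.condition
    obtain ⟨h, hh⟩ := (hcos _ _ _).1 hpq
    rw [hh]
    exact (mum_translate _ _ ((hK.univ _ _).2 ⟨h, rfl⟩) hL hd).symm
  obtain ⟨c, hc⟩ := LineDesc.Rig.exists_rig (f := A.hom) (σ := η[A].left) (hσ := Over.w η[A]) (T := Q)
    (fun Z z => ThetaLib.gammaSnd_of_abelian A (Over.mk z)) q.left c' hglue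
  have hc2 : pl (lift (1 : Q ⟶ A) (𝟙 Q)) (c.1 : PicF.Cl (A ⊗ Q).left) = 1 :=
    (congrArg (fun m => PicF.pullCl m (c.1 : PicF.Cl (A ⊗ Q).left)) (AVDual.secT_eq (X := A) Q)).symm.trans c.2.2
  refine ⟨Q, sQ, q, c.1, inferInstance, hQg, hq, hsurj, hflat, fun T a b => hcos T a b, c.2.1, hc2, ?_⟩
  let e' : A ⟶ U := Over.homMk (𝟙 A.left) ((Category.id_comp _).trans (Over.w q))
  have h1 : e' ≫ e = 𝟙 A := Over.OverMorphism.ext (Category.comp_id _)
  have h2 : e' ≫ AbDual.ovrHom Q q.left = q := Over.OverMorphism.ext (Category.id_comp _)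
  have hc' : pl (A ◁ AbDual.ovrHom Q q.left) c.1 = pl (A ◁ e) m := hc
  have h := congrArg (pl (A ◁ e')) hc'
  rw [pl_pl, pl_pl, ← MonoidalCategory.whiskerLeft_comp, ← MonoidalCategory.whiskerLeft_comp, h1, h2,
    MonoidalCategory.whiskerLeft_id, pl_id] at h
  exact h

end Groth.Agent.AVDualMake
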